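import Mathlib.GroupTheory.Sylow
import Mathlib.GroupTheory.GroupAction.Basic
import Mathlib.GroupTheory.QuotientGroup.Basic
import Mathlib.GroupTheory.Nilpotent
import Mathlib.GroupTheory.SpecificGroups.Cyclic
import Mathlib.Data.Fintype.Card

/-!
A coprime action of a finite `p`-group with all orbits of length at most `p` has an image of order
at most `p`.
-/

set_option autoImplicit false
set_option linter.style.haveILetI false

namespace Cfsg.Agent.Lib.SquarefreeDegree74

/-- `relIndex` against a normal subgroup divides the index. -/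
theorem relIndex_dvd_index_normal {G : Type*} [Group G] [Finite G] (S N : Subgroup G) [N.Normal] :
    S.relIndex N ∣ S.index := by
  have h1 : N.relIndex (S ⊔ N) = N.relIndex S := Subgroup.relIndex_sup_right S N
  have hc : ∀ A B : Subgroup G, A ≤ B → Nat.card A * A.relIndex B = Nat.card B := by
    intro A B hAB
    have h := Subgroup.relIndex_mul_relIndex ⊥ A B bot_le hAB
    rwa [Subgroup.relIndex_bot_left, Subgroup.relIndex_bot_left] at h
  have e1 := hc N (S ⊔ N) le_sup_right
  have e2 := hc S (S ⊔ N) le_sup_left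
  have e3 := hc (S ⊓ N) S inf_le_left
  have e4 := hc (S ⊓ N) N inf_le_right
  rw [Subgroup.inf_relIndex_left] at e3
  rw [Subgroup.inf_relIndex_right] at e4
  rw [h1] at e1
  have hkey : S.relIndex (S ⊔ N) = S.relIndex N := by
    have hpos : 0 < Nat.card (S ⊓ N : Subgroup G) * N.relIndex S :=
      Nat.mul_pos Nat.card_pos (Nat.pos_of_ne_zero (by
        intro h0; rw [h0, mul_zero] at e3; exact (Nat.card_pos (α := S)).ne e3))
    refine Nat.eq_of_mul_eq_mul_left hpos ?_
    rw [e3, e2, ← e1, ← e4, ← e3]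
    ring
  rw [← hkey, ← Subgroup.relIndex_mul_index (le_sup_left : S ≤ S ⊔ N)]
  exact Dvd.intro _ rfl

variable {P Y : Type*} [Group P] [Finite P] [CommGroup Y]

/-- Orbits of length at most `p` under a faithful coprime action force order at most `p`. -/
theorem card_dvd_prime {p r : ℕ} [hp : Fact p.Prime] (hP : IsPGroup p P) (φ : P →* MulAut Y)
    (hφ : Function.Injective φ) (hr : ∀ y : Y, y ^ r = 1) (hpr : Nat.Coprime p r)
    (hstab : ∀ (y : Y) (S : Subgroup P), (∀ g, g ∈ S ↔ φ g y = y) → S.index ∣ p) :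
    Nat.card P ∣ p := by
  classical
  have hkill : ∀ u : Y, u ^ p = 1 → u = 1 := fun u hu => by
    have h := Nat.dvd_gcd (orderOf_dvd_of_pow_eq_one hu) (orderOf_dvd_of_pow_eq_one (hr u))
    rw [hpr.gcd_eq_one] at h
    exact orderOf_eq_one_iff.mp (Nat.dvd_one.mp h)
  let St : Y → Subgroup P := fun y =>
    { carrier := {g | φ g y = y}
      one_mem' := by simp
      mul_mem' := fun {a b} ha hb => by
        simp only [Set.mem_setOf_eq] at *
        rw [map_mul, MulAut.mul_apply, hb, ha]
      inv_mem' := fun {a} ha => by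
        simp only [Set.mem_setOf_eq] at *
        conv_lhs => rw [← ha]
        rw [← MulAut.mul_apply, ← map_mul, inv_mul_cancel, map_one, MulAut.one_apply] }
  have hidx : ∀ y, (St y).index ∣ p := fun y => hstab y (St y) fun g => Iff.rfl
  have hnil := hP.isNilpotent
  have hnorm : ∀ y, (St y).Normal := by
    intro y
    rcases (Nat.dvd_prime hp.out).mp (hidx y) with h | h
    · rw [Subgroup.index_eq_one.mp h]; infer_instance
    · refine Subgroup.NormalizerCondition.normal_of_coatom _ Group.normalizerCondition_of_isNilpotent ?_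
      refine ⟨fun ht => hp.out.one_lt.ne' (by rw [← h, ht, Subgroup.index_top]), fun K hK => ?_⟩
      have h2 := Subgroup.relIndex_mul_index hK.le
      rw [h] at h2
      rcases (Nat.dvd_prime hp.out).mp (Dvd.intro _ h2) with h3 | h3
      · exact absurd (Subgroup.relIndex_eq_one.mp h3) hK.not_ge
      · rw [h3] at h2
        exact Subgroup.index_eq_one.mp (Nat.eq_of_mul_eq_mul_left hp.out.pos (by rw [h2, mul_one]))
  -- an element with trivial image in every quotient
  have htriv : ∀ g, (∀ y, g ∈ St y) → g = 1 := fun g hg =>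
    hφ (by rw [map_one]; ext y; exact hg y)
  have hcomm : ∀ a b : P, a * b = b * a := by
    intro a b
    have : a * b * (b * a)⁻¹ = 1 := htriv _ fun y => by
      haveI := hnorm y
      rw [← QuotientGroup.eq_one_iff, QuotientGroup.mk_mul, QuotientGroup.mk_inv,
        QuotientGroup.mk_mul, QuotientGroup.mk_mul, mul_inv_eq_one]
      rcases (Nat.dvd_prime hp.out).mp (hidx y) with h | h
      · haveI : Subsingleton (P ⧸ St y) := by
          rw [← Finite.card_le_one_iff_subsingleton, ← Subgroup.index_eq_card, h]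
        exact Subsingleton.elim _ _
      · haveI : IsCyclic (P ⧸ St y) := isCyclic_of_prime_card (p := p) (by rw [← Subgroup.index_eq_card, h])
        exact IsCyclic.commGroup.mul_comm _ _
    exact mul_inv_eq_one.mp this
  have hexp : ∀ g : P, g ^ p = 1 := fun g => htriv _ fun y => by
    haveI := hnorm y
    rw [← QuotientGroup.eq_one_iff, QuotientGroup.mk_pow, ← orderOf_dvd_iff_pow_eq_one]
    exact (orderOf_dvd_natCard _).trans (by rw [← Subgroup.index_eq_card]; exact hidx y)
  by_contra hbig
  obtain ⟨y1, hy1⟩ : ∃ y, St y ≠ ⊤ := by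
    by_contra h
    push Not at h
    apply hbig
    have hs : Subsingleton P := ⟨fun a b => by
      rw [htriv a fun y => by rw [h y]; trivial, htriv b fun y => by rw [h y]; trivial]⟩
    rw [Nat.card_of_subsingleton (1 : P)]
    exact one_dvd p
  have hi1 : (St y1).index = p := ((Nat.dvd_prime hp.out).mp (hidx y1)).resolve_left
    fun h => hy1 (Subgroup.index_eq_one.mp h)
  obtain ⟨b, hb, hb1⟩ : ∃ b, b ∈ St y1 ∧ b ≠ 1 := by
    by_contra h
    push Not at h
    apply hbig
    have : St y1 = ⊥ := (Subgroup.eq_bot_iff_forall _).mpr h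
    rw [← Subgroup.index_bot (G := P), ← this, hi1]
  obtain ⟨y2, hy2⟩ : ∃ y, b ∉ St y := by
    by_contra h
    push Not at h
    exact hb1 (htriv b h)
  obtain ⟨a, ha2, ha1⟩ : ∃ a, a ∈ St y2 ∧ a ∉ St y1 := by
    by_contra h
    push Not at h
    have hle : St y2 ≤ St y1 := h
    have h2 := Subgroup.relIndex_mul_index hle
    rw [hi1] at h2
    have h3 : (St y2).index = p := ((Nat.dvd_prime hp.out).mp (hidx y2)).resolve_left
      fun h => hy2 (by rw [Subgroup.index_eq_one.mp h]; trivial)
    rw [h3] at h2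
    have h4 : (St y2).relIndex (St y1) = 1 :=
      Nat.eq_of_mul_eq_mul_right hp.out.pos (by rw [h2, one_mul])
    exact hy2 (Subgroup.relIndex_eq_one.mp h4 hb)
  have hc : ∀ (g h : P) (y : Y), φ g (φ h y) = φ h (φ g y) := fun g h y => by
    rw [← MulAut.mul_apply, ← map_mul, hcomm g h, map_mul, MulAut.mul_apply]
  have hit : ∀ (g : P) (z u : Y), φ g z = z * u → φ g u = u → ∀ n : ℕ, φ (g ^ n) z = z * u ^ n := by
    intro g z u h1 h2 n
    induction n with
    | zero => simp
    | succ n ih => rw [pow_succ', map_mul, MulAut.mul_apply, ih, map_mul, map_pow, h1, h2, pow_succ', mul_assoc]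
  have ha2' : φ a y2 = y2 := ha2
  have hb' : φ b y1 = y1 := hb
  set z1 := y1⁻¹ * φ a y1 with hz1
  set z2 := y2⁻¹ * φ b y2 with hz2
  have haz1 : φ a z1 ≠ z1 := fun h => by
    have h1 := hit a y1 z1 (by rw [hz1, mul_inv_cancel_left]) h p
    rw [hexp, map_one, MulAut.one_apply, left_eq_mul] at h1
    exact ha1 (show φ a y1 = y1 from (inv_mul_eq_one.mp (hkill z1 h1)).symm)
  have hbz2 : φ b z2 ≠ z2 := fun h => by
    have h1 := hit b y2 z2 (by rw [hz2, mul_inv_cancel_left]) h p
    rw [hexp, map_one, MulAut.one_apply, left_eq_mul] at h1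
    exact hy2 (show φ b y2 = y2 from (inv_mul_eq_one.mp (hkill z2 h1)).symm)
  have hbz1 : φ b z1 = z1 := by rw [hz1, map_mul, map_inv, hb', hc b a, hb']
  have haz2 : φ a z2 = z2 := by rw [hz2, map_mul, map_inv, ha2', hc a b, ha2']
  set y := z1 * z2 with hy
  have hay : a ∉ St y := fun h => haz1 (by
    have h' : φ a y = y := h
    rw [hy, map_mul, haz2] at h'
    exact mul_right_cancel h')
  have hiy : (St y).index = p := ((Nat.dvd_prime hp.out).mp (hidx y)).resolve_left
    fun h => hay (by rw [Subgroup.index_eq_one.mp h]; trivial)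
  haveI := hnorm y
  obtain ⟨i, hi⟩ : ∃ i : ℕ, b * a ^ i ∈ St y := by
    haveI : IsCyclic (P ⧸ St y) := isCyclic_of_prime_card (p := p) (by rw [← Subgroup.index_eq_card, hiy])
    have hne : (QuotientGroup.mk a : P ⧸ St y) ≠ 1 := mt (QuotientGroup.eq_one_iff a).mp hay
    obtain ⟨k, hk⟩ := mem_zpowers_of_prime_card (p := p) (by rw [← Subgroup.index_eq_card, hiy]) hne
      (g' := (QuotientGroup.mk b : P ⧸ St y)⁻¹)
    obtain ⟨i, hi⟩ := (isOfFinOrder_of_finite (QuotientGroup.mk a : P ⧸ St y)).mem_powers_iff_mem_zpowers.mpr ⟨k, hk⟩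
    refine ⟨i, ?_⟩
    rw [← QuotientGroup.eq_one_iff, QuotientGroup.mk_mul, QuotientGroup.mk_pow,
      show (QuotientGroup.mk a : P ⧸ St y) ^ i = _ from hi, mul_inv_cancel]
  set c := a ^ i with hcdef
  have hcz2 : φ c z2 = z2 := by
    have h1 := hit a z2 1 (by rw [mul_one, haz2]) (map_one _) i
    rwa [one_pow, mul_one] at h1
  have hbc : φ c z1 * φ b z2 = z1 * z2 := by
    have h1 : φ (b * c) y = y := hi
    rwa [map_mul φ, MulAut.mul_apply, hy, map_mul, map_mul, hcz2, hc b c, hbz1] at h1
  set u := z2 * (φ b z2)⁻¹ with hu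
  have hcz1 : φ c z1 = z1 * u := by
    rw [hu, ← mul_assoc, eq_mul_inv_iff_mul_eq, hbc]
  have hau : φ a u = u := by rw [hu, map_mul, map_inv, haz2, hc a b, haz2]
  have hcu : φ c u = u := by
    have h1 := hit a u 1 (by rw [mul_one, hau]) (map_one _) i
    rwa [one_pow, mul_one] at h1
  have h1 := hit c z1 u hcz1 hcu p
  rw [hexp, map_one, MulAut.one_apply, left_eq_mul] at h1
  exact hbz2 (mul_inv_eq_one.mp (hkill u h1)).symm

end Cfsg.Agent.Lib.SquarefreeDegree74
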