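import Cfsg.Agent.Lib.BC77.ThreeDegrees.Fitting
import Cfsg.Agent.Lib.Cores.Basic
import Cfsg.Agent.Lib.Cores.MinNormal
import Cfsg.Agent.Lib.Characters.Linear
import Cfsg.Agent.Lib.SquarefreeDegree74.Orbit

/-!
Solvable groups with squarefree character degrees have derived length at most four: the second
derived subgroup lies in the Fitting subgroup, which is metabelian.
-/

set_option autoImplicit false
set_option linter.style.haveILetI false
set_option linter.unusedSectionVars false

namespace Cfsg.Agent.Lib.SquarefreeDegree74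

open scoped ComplexConjugate commutatorElement
open Cfsg.Agent.Lib
open Cfsg.Agent.Lib.Characters.Basic
open Cfsg.Agent.Lib.BC77.ThreeDegrees
open Cfsg.Agent.Lib.BlocksChars5.Basic (apply_one inflate inflate_apply)

universe u

variable {G : Type u} [Group G] [Finite G]

/-- All irreducible degrees are squarefree. -/
def SqDeg (G : Type u) [Group G] : Prop := ∀ χ : Cfsg.IrrCharacter G, Squarefree (dg χ)

theorem SqDeg.quot (h : SqDeg G) (N : Subgroup G) [N.Normal] : SqDeg (G ⧸ N) :=
  fun χ => dg_inflate N χ ▸ h (inflate N χ)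

theorem SqDeg.normal (h : SqDeg G) (N : Subgroup G) [N.Normal] : SqDeg N := by
  intro θ
  have := Fintype.ofFinite G
  have := Fintype.ofFinite N
  obtain ⟨χ, e, -, he, -⟩ := exists_over N θ
  exact (h χ).squarefree_of_dvd ⟨e, by rw [he, mul_comm]⟩

theorem SqDeg.surj (h : SqDeg G) {H : Type u} [Group H] [Finite H] (f : G →* H)
    (hf : Function.Surjective f) : SqDeg H := by
  intro χ
  have h1 := h ⟨_, isIrrCharacter_comp f hf χ.2⟩
  have e : Cfsg.charDegree ((χ : H → ℂ) ∘ f) = Cfsg.charDegree (χ : H → ℂ) :=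
    BlocksChars5.Basic.charDegree_congr (by simp)
  have h2 : dg χ = Cfsg.charDegree ((χ : H → ℂ) ∘ f) := e.symm
  rw [h2]
  exact h1

/-- A `p`-group with squarefree degrees is metabelian. -/
theorem metabelian_pGroup {p : ℕ} [hp : Fact p.Prime] (hG : IsPGroup p G) (h : SqDeg G) :
    derivedSeries G 2 = ⊥ := by
  refine metabelian (a := p) fun χ => ?_
  obtain ⟨n, hn⟩ := IsPGroup.iff_card.mp hG
  obtain ⟨i, -, hi⟩ := (Nat.dvd_prime_pow hp.out).mp (hn ▸ BlocksChars5.Basic.degree_dvd_card χ)
  change dg χ = p ^ i at hi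
  have hs := h χ
  rw [hi] at hs
  rcases Nat.lt_or_ge i 2 with hi2 | hi2
  · interval_cases i
    · exact Or.inl (by rw [hi, pow_zero])
    · exact Or.inr (by rw [hi, pow_one])
  · exact absurd (hs p (dvd_trans (by rw [pow_two]) (pow_dvd_pow p hi2)))
      (by simpa using hp.out.ne_one)

/-- A nilpotent group with squarefree degrees is metabelian. -/
theorem metabelian_nilpotent [Group.IsNilpotent G] (h : SqDeg G) : derivedSeries G 2 = ⊥ := by
  have hn : ∀ {p : ℕ} [Fact p.Prime] (P : Sylow p G), (P : Subgroup G).Normal := fun _ => inferInstance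
  set e := Sylow.directProductOfNormal hn
  rw [Subgroup.eq_bot_iff_forall]
  intro x hx
  apply e.symm.injective
  rw [map_one]
  funext p P
  let f : G →* (P : Subgroup G) :=
    ((Pi.evalMonoidHom _ P).comp (Pi.evalMonoidHom _ p)).comp e.symm.toMonoidHom
  have hf : Function.Surjective f := fun y => by
    classical
    refine ⟨e (Function.update 1 p (Function.update 1 P y)), ?_⟩
    simp [f]
  haveI : Fact (p : ℕ).Prime := ⟨Nat.prime_of_mem_primeFactors p.2⟩
  have h1 := metabelian_pGroup P.isPGroup' (h.surj f hf)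
  have h2 : f x ∈ derivedSeries (P : Subgroup G) 2 :=
    map_derivedSeries_le_derivedSeries f 2 ⟨x, hx, rfl⟩
  rw [h1, Subgroup.mem_bot] at h2
  exact h2

/-- The dual action of a group on the characters of an abelian normal subgroup. -/
noncomputable def dualAct (W : Subgroup G) [W.Normal] : G →* MulAut (W →* ℂˣ) where
  toFun g :=
    { toFun := fun y => y.comp (MulAut.conjNormal g⁻¹).toMonoidHom
      invFun := fun y => y.comp (MulAut.conjNormal g).toMonoidHom
      left_inv := fun y => by ext w; simp
      right_inv := fun y => by ext w; simp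
      map_mul' := fun y z => by ext w; simp }
  map_one' := by ext y w; simp
  map_mul' g h := by
    refine MulEquiv.ext fun y => MonoidHom.ext fun w => ?_
    simp [mul_assoc, MulAut.mul_apply]

theorem dualAct_apply (W : Subgroup G) [W.Normal] (g : G) (y : W →* ℂˣ) (w : W) :
    dualAct W g y w = y (MulAut.conjNormal g⁻¹ w) := rfl

theorem dualAct_ker (W : Subgroup G) [W.Normal] [IsMulCommutative W] :
    (dualAct W).ker = Subgroup.centralizer (W : Set G) := by
  have := Fintype.ofFinite G
  have := Fintype.ofFinite W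
  ext g
  rw [MonoidHom.mem_ker, Subgroup.mem_centralizer_iff]
  constructor
  · intro hg w hw
    have key : (MulAut.conjNormal g⁻¹ (⟨w, hw⟩ : W)) * (⟨w, hw⟩ : W)⁻¹ = 1 := by
      refine Characters.Complete.eq_one_of_forall_irr fun θ => ?_
      have hc : ∀ a b : W, a * b = b * a := fun a b => mul_comm' a b
      have h1 : (θ : W → ℂ) 1 = 1 := BlocksChars5.Basic.degree_eq_one_of_comm θ hc
      set y := Characters.Linear.degOneHom (isCharacter_irr θ) h1 with hy
      have h2 : dualAct W g y = y := by rw [hg]; rfl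
      have h3 := congrArg (fun z : W →* ℂˣ => (z ⟨w, hw⟩ : ℂ)) h2
      simp only [dualAct_apply, hy, Characters.Linear.degOneHom_apply] at h3
      rw [Characters.Linear.apply_mul_of_degree_one (isCharacter_irr θ) h1, h3,
        ← Characters.Linear.apply_mul_of_degree_one (isCharacter_irr θ) h1, mul_inv_cancel]
    have h4 := congrArg Subtype.val (mul_inv_eq_one.mp key)
    rw [MulAut.conjNormal_apply] at h4
    simp only [inv_inv] at h4
    calc w * g = g * (g⁻¹ * w * g) := by group
      _ = g * w := by rw [h4]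
  · intro hg
    refine MulEquiv.ext fun y => MonoidHom.ext fun w => ?_
    rw [dualAct_apply, MulAut.one_apply]
    congr 1
    apply Subtype.ext
    rw [MulAut.conjNormal_apply, inv_inv]
    have := hg w w.2
    calc g⁻¹ * (w : G) * g = g⁻¹ * ((w : G) * g) := by group
      _ = w := by rw [this]; group

/-- Stabilisers of characters have squarefree index. -/
theorem squarefree_stab_index (h : SqDeg G) (W : Subgroup G) [W.Normal] (y : W →* ℂˣ)
    (T : Subgroup G) (hT : ∀ g, g ∈ T ↔ dualAct W g y = y) : Squarefree T.index := by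
  have := Fintype.ofFinite G
  have := Fintype.ofFinite W
  obtain ⟨χ, e, hχ, -, -⟩ := exists_over W (Characters.Linear.linChar y)
  have hTe : T = Clifford.Basic.inertia W (Characters.Linear.linChar y : W → ℂ) := by
    ext g
    rw [hT]
    rw [Clifford.Basic.mem_inertia]
    constructor
    · intro hg
      funext w
      rw [Clifford.Basic.conjC_apply]
      show ((y _ : ℂˣ) : ℂ) = (y w : ℂ)
      have h1 : dualAct W g⁻¹ y = y := by
        conv_lhs => rw [← hg]
        rw [← MulAut.mul_apply, ← map_mul, inv_mul_cancel, map_one, MulAut.one_apply]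
      have h2 := congrArg (fun z : W →* ℂˣ => (z w : ℂ)) h1
      simp only [dualAct_apply, inv_inv] at h2
      exact h2
    · intro hg
      refine MonoidHom.ext fun w => Units.ext ?_
      rw [dualAct_apply]
      have h2 := congrFun hg (MulAut.conjNormal g⁻¹ w)
      rw [Clifford.Basic.conjC_apply] at h2
      refine h2.symm.trans (congrArg (fun z : W => (y z : ℂ)) (Subtype.ext ?_))
      simp [MulAut.conjNormal_apply, mul_assoc]
  refine (h χ).squarefree_of_dvd ?_
  have h1 := Clifford.Basic.clifford_degree W χ.2 (Characters.Linear.linChar y) hχ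
  obtain ⟨i, hi⟩ := exists_classInner_nat
    (isCharacter_comp W.subtype (isCharacter_irr χ)) (isCharacter_irr (Characters.Linear.linChar y))
  change Cfsg.classInner (fun n : W => (χ : G → ℂ) n) (Characters.Linear.linChar y) = _ at hi
  rw [hi, apply_one χ, Characters.Linear.linChar_apply, map_one, Units.val_one, ← hTe] at h1
  refine ⟨i, ?_⟩
  have h2 : ((dg χ : ℕ) : ℂ) = ((T.index * i : ℕ) : ℂ) := by
    rw [h1]
    push_cast
    ring
  exact_mod_cast h2

theorem commute_mulAut_of_prime_card {N : Type*} [Group N] [Finite N] {p : ℕ} [hp : Fact p.Prime]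
    (h : Nat.card N ∣ p) (α β : MulAut N) : α * β = β * α := by
  haveI : IsCyclic N := by
    rcases (Nat.dvd_prime hp.out).mp h with h1 | h1
    · haveI : Subsingleton N := Finite.card_le_one_iff_subsingleton.mp h1.le
      infer_instance
    · exact isCyclic_of_prime_card h1
  obtain ⟨a, ha⟩ := α.toMonoidHom.map_cyclic
  obtain ⟨b, hb⟩ := β.toMonoidHom.map_cyclic
  refine MulEquiv.ext fun x => ?_
  show α.toMonoidHom (β.toMonoidHom x) = β.toMonoidHom (α.toMonoidHom x)
  rw [hb, ha, ha, hb, ← zpow_mul, ← zpow_mul, mul_comm]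

/-- The action on an abelian minimal normal subgroup is metabelian. -/
theorem derived_two_le_centralizer [Group.IsSolvable G] (h : SqDeg G) {W : Subgroup G} [W.Normal]
    (hW : W ≠ ⊥) (hmin : ∀ M : Subgroup G, M.Normal → M ≤ W → M = ⊥ ∨ M = W) :
    derivedSeries G 2 ≤ Subgroup.centralizer (W : Set G) := by
  obtain ⟨hcom, r, hr, hrW⟩ := Cores.MinNormal.elementary_of_solvable hW hmin
  haveI := hcom
  haveI : Fact r.Prime := ⟨hr⟩
  set C := Subgroup.centralizer (W : Set G) with hC
  set π := QuotientGroup.mk' C with hπ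
  let φ : G ⧸ C →* MulAut (W →* ℂˣ) := QuotientGroup.lift C (dualAct W) (dualAct_ker W).ge
  have hφ : Function.Injective φ := by
    rw [← MonoidHom.ker_eq_bot_iff, QuotientGroup.ker_lift, dualAct_ker, ← hC]
    exact QuotientGroup.map_mk'_self C
  have hyr : ∀ y : W →* ℂˣ, y ^ r = 1 := fun y => by
    ext w
    have e : w ^ r = 1 := Subtype.ext (by simpa using hrW w w.2)
    rw [MonoidHom.pow_apply, ← map_pow, e, map_one, MonoidHom.one_apply]
  -- no normal `r`-subgroup
  have hr0 : pCore r (G ⧸ C) = ⊥ := by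
    set N := pCore r (G ⧸ C) with hN
    haveI : N.Normal := inferInstance
    let ψ : G ⧸ C →* MulAut W := QuotientGroup.lift C (MulAut.conjNormal : G →* MulAut W) (by
      intro g hg
      rw [MonoidHom.mem_ker]
      refine MulEquiv.ext fun w => Subtype.ext ?_
      rw [MulAut.conjNormal_apply, MulAut.one_apply,
        ← Subgroup.mem_centralizer_iff.mp hg w w.2, mul_inv_cancel_right])
    have hψ : ∀ g w, ψ (π g) w = MulAut.conjNormal g w := fun g w => rfl
    letI : MulAction N W := MulAction.compHom W (ψ.comp N.subtype)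
    have hWr : IsPGroup r W := Cores.MinNormal.isPGroup_of_pow_eq_one hrW
    let D : Subgroup G :=
      { carrier := {x | ∃ hx : x ∈ W, ∀ n : N, n • (⟨x, hx⟩ : W) = ⟨x, hx⟩}
        one_mem' := ⟨W.one_mem, fun n => map_one (ψ n)⟩
        mul_mem' := fun {a b} ⟨ha, ha'⟩ ⟨hb, hb'⟩ => ⟨W.mul_mem ha hb, fun n => by
          show ψ n ((⟨a, ha⟩ : W) * ⟨b, hb⟩) = _
          rw [map_mul, show ψ n ⟨a, ha⟩ = ⟨a, ha⟩ from ha' n, show ψ n ⟨b, hb⟩ = ⟨b, hb⟩ from hb' n]
          rfl⟩
        inv_mem' := fun {a} ⟨ha, ha'⟩ => ⟨W.inv_mem ha, fun n => by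
          show ψ n ((⟨a, ha⟩ : W)⁻¹) = _
          rw [map_inv, show ψ n ⟨a, ha⟩ = ⟨a, ha⟩ from ha' n]
          rfl⟩ }
    have hDn : D.Normal := ⟨fun x ⟨hx, hx'⟩ g => ⟨‹W.Normal›.conj_mem x hx g, fun n => by
      have e : (⟨g * x * g⁻¹, ‹W.Normal›.conj_mem x hx g⟩ : W) = ψ (π g) ⟨x, hx⟩ := Subtype.ext rfl
      have hn : (π g)⁻¹ * (n : G ⧸ C) * π g ∈ N := by
        have h1 := ‹N.Normal›.conj_mem _ n.2 (π g)⁻¹
        rwa [inv_inv] at h1
      show ψ n _ = _
      rw [e, ← MulAut.mul_apply, ← map_mul,
        show (n : G ⧸ C) * π g = π g * ((π g)⁻¹ * (n : G ⧸ C) * π g) by group, map_mul,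
        MulAut.mul_apply]
      exact congrArg _ (hx' ⟨_, hn⟩)⟩⟩
    have hD1 : D ≠ ⊥ := by
      intro hbot
      have hfix := (Cores.pCore_isPGroup (G := G ⧸ C) r).card_modEq_card_fixedPoints W
      have hcard : Nat.card (MulAction.fixedPoints N W) = 1 := by
        rw [Nat.card_eq_one_iff_unique]
        refine ⟨⟨fun a b => ?_⟩, ⟨⟨1, fun n => map_one (ψ n)⟩⟩⟩
        have h1 : ∀ c : MulAction.fixedPoints N W, ((c : W) : G) = 1 := fun c =>
          Subgroup.mem_bot.mp (hbot.le ⟨(c : W).2, fun n => c.2 n⟩)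
        exact Subtype.ext (Subtype.ext ((h1 a).trans (h1 b).symm))
      obtain ⟨k, hk⟩ := IsPGroup.iff_card.mp hWr
      rw [hcard, hk] at hfix
      rcases Nat.eq_zero_or_pos k with rfl | hk0
      · exact hW (Subgroup.card_eq_one.mp (by simpa using hk))
      · exact hr.one_lt.ne' (Nat.dvd_one.mp
          ((Nat.ModEq.dvd_iff hfix dvd_rfl).mp (dvd_pow_self r hk0.ne')))
    rw [Subgroup.eq_bot_iff_forall]
    intro n hn
    have hDW : D = W := (hmin D hDn fun x hx => hx.1).resolve_left hD1
    obtain ⟨g, rfl⟩ := QuotientGroup.mk'_surjective C n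
    rw [QuotientGroup.mk'_apply, QuotientGroup.eq_one_iff, hC, Subgroup.mem_centralizer_iff]
    intro w hw
    obtain ⟨hw', hfix⟩ := (hDW ▸ hw : w ∈ D)
    have h1 := congrArg Subtype.val (hfix ⟨π g, hn⟩)
    change ((MulAut.conjNormal g (⟨w, hw'⟩ : W) : W) : G) = w at h1
    rw [MulAut.conjNormal_apply] at h1
    calc w * g = (g * w * g⁻¹) * g := by rw [h1]
      _ = g * w := by group
  -- the other cores have order at most a prime
  have hsmall : ∀ p : ℕ, p.Prime → Nat.card (pCore p (G ⧸ C)) ∣ p := by
    intro p hp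
    haveI : Fact p.Prime := ⟨hp⟩
    by_cases hpr : p = r
    · subst hpr; rw [hr0, Subgroup.card_bot]; exact one_dvd _
    set N := pCore p (G ⧸ C) with hN
    haveI : N.Normal := inferInstance
    refine @card_dvd_prime N (W →* ℂˣ) _ _ MonoidHom.instCommGroup p r _ (Cores.pCore_isPGroup p) (φ.comp N.subtype)
      (show Function.Injective (φ.comp N.subtype) from hφ.comp N.subtype_injective) (fun y => ?_) ((Nat.coprime_primes hp hr).mpr hpr) fun y S hS => ?_
    · ext w
      have e : w ^ r = 1 := Subtype.ext (by simpa using hrW w w.2)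
      have e2 : ((y ^ r) w) = y w ^ r := rfl
      rw [e2, ← map_pow, e, map_one]; rfl
    let T' : Subgroup (G ⧸ C) :=
      { carrier := {g | φ g y = y}
        one_mem' := by simp
        mul_mem' := fun {a b} ha hb => by
          simp only [Set.mem_setOf_eq] at *
          rw [map_mul, MulAut.mul_apply, hb, ha]
        inv_mem' := fun {a} ha => by
          simp only [Set.mem_setOf_eq] at *
          conv_lhs => rw [← ha]
          rw [← MulAut.mul_apply, ← map_mul, inv_mul_cancel, map_one, MulAut.one_apply] }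
    have hsq : Squarefree T'.index := by
      rw [← T'.index_comap_of_surjective (QuotientGroup.mk'_surjective C)]
      exact squarefree_stab_index h W y _ fun g => Iff.rfl
    have hSe : S = T'.subgroupOf N := by
      ext n
      rw [hS, Subgroup.mem_subgroupOf]
      rfl
    have hd : S.index ∣ T'.index := by
      rw [hSe]
      exact relIndex_dvd_index_normal T' N
    obtain ⟨k, hk⟩ := (Cores.pCore_isPGroup (G := G ⧸ C) p).index S
    have hs : Squarefree (p ^ k) := by rw [← hk]; exact hsq.squarefree_of_dvd hd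
    rw [hk]
    rcases Nat.lt_or_ge k 2 with hk2 | hk2
    · interval_cases k <;> simp
    · exact absurd (hs p (dvd_trans (by rw [pow_two]) (pow_dvd_pow p hk2)))
        (by simpa using hp.ne_one)
  haveI : Group.IsSolvable (G ⧸ C) := inferInstance
  -- the derived subgroup centralises the Fitting subgroup
  have hcen : commutator (G ⧸ C) ≤
      Subgroup.centralizer (Cfsg.fittingSubgroup (G ⧸ C) : Set (G ⧸ C)) := by
    rw [Subgroup.le_centralizer_iff, Cores.fittingSubgroup_eq_iSup_pCore]
    refine iSup_le fun p => ?_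
    rw [Subgroup.le_centralizer_iff, commutator_def, Subgroup.commutator_le]
    intro a _ b _
    rw [Subgroup.mem_centralizer_iff]
    intro n hn
    haveI : Fact (p : ℕ).Prime := ⟨p.2⟩
    have hc := commute_mulAut_of_prime_card (hsmall p p.2)
      (MulAut.conjNormal (H := pCore p (G ⧸ C)) a) (MulAut.conjNormal b)
    have h1 : MulAut.conjNormal (H := pCore p (G ⧸ C)) ⁅a, b⁆ = 1 := by
      rw [commutatorElement_def, map_mul, map_mul, map_mul, hc, map_inv, map_inv]
      group
    have h2 := congrArg (fun α : MulAut (pCore p (G ⧸ C)) => ((α ⟨n, hn⟩ : pCore p (G ⧸ C)) : G ⧸ C)) h1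
    simp only [MulAut.conjNormal_apply, MulAut.one_apply] at h2
    calc n * ⁅a, b⁆ = (⁅a, b⁆ * n * ⁅a, b⁆⁻¹) * ⁅a, b⁆ := by rw [h2]
      _ = ⁅a, b⁆ * n := by group
  have hHd : derivedSeries (G ⧸ C) 2 = ⊥ := by
    rw [derivedSeries_succ, derivedSeries_one, Subgroup.commutator_eq_bot_iff_le_centralizer]
    exact hcen.trans (Subgroup.centralizer_le
      (hcen.trans (Cores.centralizer_fittingSubgroup_le (G := G ⧸ C))))
  intro x hx
  have hx' := map_derivedSeries_le_derivedSeries π 2 ⟨x, hx, rfl⟩
  rw [hHd, Subgroup.mem_bot] at hx'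
  exact (QuotientGroup.eq_one_iff x).mp hx'

theorem derived_two_le_fitting_aux (c : ℕ) : ∀ (G : Type u) [Group G] [Finite G],
    Nat.card G ≤ c → Group.IsSolvable G → SqDeg G →
    derivedSeries G 2 ≤ Cfsg.fittingSubgroup G := by
  induction c with
  | zero => intro G _ _ hc; exact absurd hc (not_le.mpr Nat.card_pos)
  | succ c ih =>
    intro G _ _ hc hsol h
    haveI := hsol
    rcases subsingleton_or_nontrivial G with hs | hn
    · intro x _
      rw [Subsingleton.elim x 1]
      exact one_mem _
    obtain ⟨W, hWn, hW, hmin⟩ := Cores.MinNormal.exists_minimal (G := G)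
    haveI := hWn
    have h1 := derived_two_le_centralizer h hW hmin
    have hlt : Nat.card (G ⧸ W) ≤ c := by
      have e := W.card_mul_index
      rw [Subgroup.index_eq_card] at e
      have : 1 < Nat.card W := W.one_lt_card_iff_ne_bot.mpr hW
      have : 0 < Nat.card (G ⧸ W) := Nat.card_pos
      nlinarith
    have h2 := ih (G ⧸ W) hlt inferInstance (h.quot W)
    have h3 : derivedSeries G 2 ≤ (Cfsg.fittingSubgroup (G ⧸ W)).comap (QuotientGroup.mk' W) :=
      fun x hx => h2 (map_derivedSeries_le_derivedSeries _ 2 ⟨x, hx, rfl⟩)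
    set D := derivedSeries G 2 with hD
    haveI : D.Normal := derivedSeries_normal G 2
    refine Cores.le_fittingSubgroup ?_
    let f : D →* G ⧸ W := (QuotientGroup.mk' W).comp D.subtype
    have hfr : f.range ≤ Cfsg.fittingSubgroup (G ⧸ W) := by
      rintro _ ⟨x, rfl⟩
      exact h3 x.2
    haveI : Group.IsNilpotent f.range := Cores.isNilpotent_of_le hfr Cores.fittingSubgroup_isNilpotent
    refine Subgroup.isNilpotent_of_ker_le_center f.rangeRestrict fun x hx => ?_
    rw [MonoidHom.ker_rangeRestrict, MonoidHom.mem_ker] at hx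
    have hxW : (x : G) ∈ W := (QuotientGroup.eq_one_iff _).mp hx
    exact Subgroup.mem_center_iff.mpr fun y =>
      Subtype.ext ((Subgroup.mem_centralizer_iff.mp (h1 y.2)) x hxW).symm

/-- Derived length at most four. -/
theorem derived_four [Group.IsSolvable G] (h : SqDeg G) : derivedSeries G 4 = ⊥ := by
  set F := Cfsg.fittingSubgroup G with hF
  have h2 : derivedSeries G 2 ≤ F := derived_two_le_fitting_aux _ G le_rfl ‹_› h
  haveI : Group.IsNilpotent F := Cores.fittingSubgroup_isNilpotent
  have hFd := metabelian_nilpotent (h.normal F)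
  have h3 : derivedSeries G 3 ≤ ⁅F, F⁆ := by
    rw [derivedSeries_succ]
    exact Subgroup.commutator_mono h2 h2
  have h4 : derivedSeries G 4 ≤ ⁅⁅F, F⁆, ⁅F, F⁆⁆ := by
    rw [derivedSeries_succ]
    exact Subgroup.commutator_mono h3 h3
  have e1 : ⁅F, F⁆ = (derivedSeries F 1).map F.subtype := by
    rw [derivedSeries_one, commutator_def, Subgroup.map_commutator, ← MonoidHom.range_eq_map,
      Subgroup.range_subtype]
  have e2 : ⁅⁅F, F⁆, ⁅F, F⁆⁆ = (derivedSeries F 2).map F.subtype := by
    rw [e1, ← Subgroup.map_commutator, ← derivedSeries_succ]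
  rw [eq_bot_iff]
  refine h4.trans ?_
  rw [e2, hFd, Subgroup.map_bot]

end Cfsg.Agent.Lib.SquarefreeDegree74
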